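import Cfsg.Agent.BaseTwo.Colour

/-!
A solvable primitive permutation group has a colouring by five colours with trivial stabiliser.
-/

set_option autoImplicit false
set_option maxHeartbeats 1000000

namespace Cfsg.Agent.BaseThree

open BaseTwo MulAction

universe u v

local instance fact_five : Fact (Nat.Prime 5) := ⟨by norm_num⟩

/-- The primitive case. -/
theorem colour_five {Ω : Type u} [Finite Ω] [Nontrivial Ω] {G : Type v}
    [Group G] [Finite G] [Group.IsSolvable G] [MulAction G Ω] [FaithfulSMul G Ω]
    (hprim : IsPreprimitive G Ω) : HasColour 5 G Ω := by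
  classical
  haveI := hprim
  haveI : Nontrivial G := by
    obtain ⟨a, b, hab⟩ := exists_pair_ne Ω
    obtain ⟨g, hg⟩ := exists_smul_eq G a b
    exact ⟨g, 1, fun e => hab (by rw [← hg, e, one_smul])⟩
  obtain ⟨N, hN⟩ := Core.exists_isMinNormal (G := G)
  haveI := hN.normal
  haveI : IsMulCommutative N := hN.isMulCommutative
  obtain ⟨r, hr, hrN⟩ := hN.exists_prime_pow_eq_one
  haveI := Fact.mk hr
  letI : CommGroup N := { (inferInstance : Group N) with mul_comm := mul_comm' }
  obtain ⟨m, ⟨co⟩⟩ := exists_coord (r := r) (M := Additive N) fun x => by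
    have := hrN x.toMul.1 x.toMul.2
    exact Additive.toMul.injective (Subtype.ext this)
  have hst := PrimReduce.stabilizer_eq_bot_of_abelian hprim hN.ne_bot
  haveI := PrimReduce.isPretransitive_of_normal hprim hN.ne_bot
  obtain ⟨a⟩ : Nonempty Ω := inferInstance
  let pr : (Fin m → ZMod r) → Ω := fun x => (co x).toMul • a
  have hbij : Function.Bijective pr := by
    refine ⟨fun x y h => ?_, fun b => ?_⟩
    · have h' : (co y).toMul⁻¹ * (co x).toMul ∈ stabilizer N a := by
        rw [mem_stabilizer_iff, mul_smul, inv_smul_eq_iff]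
        exact h
      rw [hst, Subgroup.mem_bot, inv_mul_eq_one] at h'
      exact co.injective (Additive.toMul.injective h'.symm)
    · obtain ⟨n, hn⟩ := exists_smul_eq N a b
      exact ⟨co.symm (Additive.ofMul n), by simp [pr, hn]⟩
  let e := Equiv.ofBijective pr hbij
  letI : MulAction G (Fin m → ZMod r) :=
    { smul := fun g x => e.symm (g • e x)
      one_smul := fun x => show e.symm ((1 : G) • e x) = x by rw [one_smul, Equiv.symm_apply_apply]
      mul_smul := fun g h x => show e.symm ((g * h) • e x) = e.symm (g • e (e.symm (h • e x))) by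
        rw [Equiv.apply_symm_apply, mul_smul] }
  have hsm : ∀ (g : G) (x : Fin m → ZMod r), e (g • x) = g • e x := fun g x => e.apply_symm_apply _
  haveI : FaithfulSMul G (Fin m → ZMod r) := ⟨fun {g h} hgh => eq_of_smul_eq_smul fun b : Ω => by
    have := congrArg e (hgh (e.symm b))
    rwa [hsm, hsm, Equiv.apply_symm_apply] at this⟩
  haveI : IsPreprimitive G (Fin m → ZMod r) := by
    let f : (Fin m → ZMod r) →ₑ[(id : G → G)] Ω := { toFun := e, map_smul' := hsm }
    exact (isPreprimitive_congr Function.surjective_id (f := f) e.bijective).2 hprim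
  have hsum : ∀ x y : Fin m → ZMod r, e (x + y) = ((co x).toMul : G) • e y := fun x y => by
    show (co (x + y)).toMul • a = (co x).toMul • (co y).toMul • a
    rw [map_add, toMul_add, mul_smul]
  have hA : IsAffine r m G := by
    intro g
    let cj : Additive N →+ Additive N := AddMonoidHom.mk'
      (fun n => Additive.ofMul ⟨g * n.toMul * g⁻¹, hN.normal.conj_mem _ n.toMul.2 g⟩) fun x y => by
        apply Additive.toMul.injective
        apply Subtype.ext
        show g * ((x.toMul : G) * y.toMul) * g⁻¹ = g * x.toMul * g⁻¹ * (g * y.toMul * g⁻¹)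
        group
    refine ⟨(co.symm.toAddMonoidHom.comp cj).comp co.toAddMonoidHom, fun x => e.injective ?_⟩
    show e (g • x) = e (co.symm (cj (co x)) + g • 0)
    rw [hsum, hsm, hsm, AddEquiv.apply_symm_apply]
    show g • e x = (g * (co x).toMul * g⁻¹) • g • e 0
    rw [← mul_smul, inv_mul_cancel_right, mul_smul]
    congr 1
    rw [← hsum, add_zero]
  have htr : ∀ v, ∃ g : G, ∀ x : Fin m → ZMod r, g • x = x + v := fun v =>
    ⟨(co v).toMul, fun x => e.injective (by rw [hsm, add_comm, hsum])⟩
  have hm : 1 ≤ m := by
    by_contra hm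
    have hm0 : m = 0 := by omega
    obtain ⟨x, y, hxy⟩ := exists_pair_ne Ω
    apply hxy
    rw [← e.apply_symm_apply x, ← e.apply_symm_apply y]
    congr 1
    funext i
    exact absurd i.2 (by omega)
  obtain ⟨f, hf⟩ : HasColour 5 G (Fin m → ZMod r) := by
    by_cases hs : m + 1 < 5
    · exact colour_small hA hs
    · exact colour_triples hA (by norm_num) (by omega)
  refine ⟨f ∘ e.symm, fun g hg b => ?_⟩
  have := hf g (fun x => by
    have := hg (e x)
    simp only [Function.comp_apply, ← hsm, Equiv.symm_apply_apply] at this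
    exact this) (e.symm b)
  have h2 := congrArg e this
  rwa [hsm, Equiv.apply_symm_apply] at h2

end Cfsg.Agent.BaseThree
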