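import Cfsg.Agent.OrderType.Count
import Mathlib.Algebra.Module.ZMod
import Mathlib.LinearAlgebra.Matrix.Transvection
import Mathlib.LinearAlgebra.Matrix.GeneralLinearGroup.Defs
import Mathlib.LinearAlgebra.LinearIndependent.Lemmas

/-!
A solvable group with a base of three vectors has five classes of such bases.
-/

set_option autoImplicit false
set_option maxHeartbeats 1000000

namespace Cfsg.Agent.BaseThree

open Matrix
open scoped commutatorElement

variable {p : ℕ} [Fact p.Prime]

/-- A transvection as an invertible matrix. -/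
noncomputable def trv {i j : Fin 3} (h : i ≠ j) (c : ZMod p) : GL (Fin 3) (ZMod p) :=
  GeneralLinearGroup.mkOfDetNeZero (transvection i j c)
    (by rw [det_transvection_of_ne i j h c]; exact one_ne_zero)

theorem trv_comm {i j k : Fin 3} (hij : i ≠ j) (hjk : j ≠ k) (hik : i ≠ k) :
    ⁅trv (p := p) hij 1, trv (p := p) hjk 1⁆ = trv hik 1 := by
  rw [commutatorElement_def, mul_inv_eq_iff_eq_mul, mul_inv_eq_iff_eq_mul]
  apply Units.ext
  show transvection i j (1 : ZMod p) * transvection j k 1 =
    transvection i k 1 * transvection j k 1 * transvection i j 1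
  simp only [transvection, mul_add, add_mul, mul_one, one_mul, Matrix.single_mul_single_same,
    Matrix.single_mul_single_of_ne _ _ _ _ hjk.symm, Matrix.single_mul_single_of_ne _ _ _ _ hik.symm,
    Matrix.single_mul_single_of_ne _ _ _ _ hij.symm, zero_mul, add_zero, zero_add]
  abel

theorem gl3_not_solvable : ¬ Group.IsSolvable (GL (Fin 3) (ZMod p)) := by
  intro hs
  obtain ⟨n, hn⟩ := (Group.isSolvable_def _).1 hs
  have h : ∀ n, ∀ i k : Fin 3, ∀ hik : i ≠ k, trv (p := p) hik 1 ∈ derivedSeries (GL (Fin 3) (ZMod p)) n := by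
    intro n
    induction n with
    | zero => intro i k _; exact Subgroup.mem_top _
    | succ n ih =>
      intro i k hik
      obtain ⟨j, hij, hjk⟩ : ∃ j : Fin 3, i ≠ j ∧ j ≠ k := by revert hik; revert i k; decide
      rw [derivedSeries_succ, ← trv_comm hij hjk hik]
      exact Subgroup.commutator_mem_commutator (ih i j hij) (ih j k hjk)
  have h01 := hn ▸ h n 0 1 (by decide)
  have h1 : transvection (0 : Fin 3) 1 (1 : ZMod p) = 1 := congrArg Units.val (Subgroup.mem_bot.1 h01)
  simpa [transvection, Matrix.one_apply] using congrFun (congrFun h1 0) 1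

theorem five_cosets {K : Subgroup (GL (Fin 3) (ZMod p))} (hK : Group.IsSolvable K) :
    ∃ x : Fin 5 → GL (Fin 3) (ZMod p), ∀ k k', (x k)⁻¹ * x k' ∈ K → k = k' := by
  haveI := Fintype.ofFinite (GL (Fin 3) (ZMod p) ⧸ K)
  rcases Nat.lt_or_ge (Fintype.card (GL (Fin 3) (ZMod p) ⧸ K)) 5 with hlt | hge
  · exfalso
    apply gl3_not_solvable (p := p)
    classical
    obtain ⟨ι⟩ := Function.Embedding.nonempty_of_card_le (α := GL (Fin 3) (ZMod p) ⧸ K) (β := Fin 4)
      (by rw [Fintype.card_fin]; omega)
    haveI := OrderType.s4_solvable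
    haveI : Group.IsSolvable (Equiv.Perm (GL (Fin 3) (ZMod p) ⧸ K)) :=
      Group.isSolvable_of_isSolvable_injective (Equiv.Perm.viaEmbeddingHom_injective ι)
    let f := MulAction.toPermHom (GL (Fin 3) (ZMod p)) (GL (Fin 3) (ZMod p) ⧸ K)
    have hker : f.ker ≤ K.subtype.range := fun g hg => by
      have h1 : f g ((1 : GL (Fin 3) (ZMod p)) : GL (Fin 3) (ZMod p) ⧸ K) =
          ((1 : GL (Fin 3) (ZMod p)) : GL (Fin 3) (ZMod p) ⧸ K) := by rw [MonoidHom.mem_ker.1 hg]; rfl
      have h2 : (g : GL (Fin 3) (ZMod p) ⧸ K) = ((1 : GL (Fin 3) (ZMod p)) : GL (Fin 3) (ZMod p) ⧸ K) := by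
        simpa [f] using h1
      rw [QuotientGroup.eq, mul_one, inv_mem_iff] at h2
      exact ⟨⟨g, h2⟩, rfl⟩
    exact Group.isSolvable_of_ker_le_range K.subtype f hker
  · obtain ⟨ι⟩ := Function.Embedding.nonempty_of_card_le (α := Fin 5) (β := GL (Fin 3) (ZMod p) ⧸ K)
      (by rwa [Fintype.card_fin])
    refine ⟨fun k => (ι k).out, fun k k' h => ι.injective ?_⟩
    rw [← QuotientGroup.eq, QuotientGroup.out_eq', QuotientGroup.out_eq'] at h
    exact h

variable {H W : Type*} [Group H] [AddCommGroup W] [DistribMulAction H W]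

/-- A triple whose common stabiliser acts trivially. -/
def GoodTriple (H : Type*) {W : Type*} [Group H] [AddCommGroup W] [DistribMulAction H W] (T : Fin 3 → W) : Prop :=
  ∀ h : H, h • T = T → ∀ w : W, h • w = w

/-- Five good triples in distinct orbits. -/
def FiveOrbits (H : Type*) (W : Type*) [Group H] [AddCommGroup W] [DistribMulAction H W] : Prop :=
  ∃ T : Fin 5 → Fin 3 → W, (∀ k, GoodTriple H (T k)) ∧ ∀ (h : H) k k', h • T k = T k' → k = k'

theorem smul_triple {h : H} {a b c a' b' c' : W} :
    h • ![a, b, c] = ![a', b', c'] ↔ h • a = a' ∧ h • b = b' ∧ h • c = c' := by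
  constructor
  · intro e
    exact ⟨congrFun e 0, congrFun e 1, congrFun e 2⟩
  · rintro ⟨e0, e1, e2⟩
    funext i
    fin_cases i <;> simpa

variable [Module (ZMod p) W]

theorem smul_zmod (h : H) (c : ZMod p) (w : W) : h • c • w = c • h • w :=
  ZMod.map_smul (DistribMulAction.toAddMonoidHom W h) c w

/-- Five orbits from a good vector. -/
theorem five_of_one {e : W} (he : e ≠ 0) (hg : ∀ h : H, h • e = e → ∀ w : W, h • w = w) : FiveOrbits H W := by
  let T : Fin 5 → Fin 3 → W := ![![e, 0, 0], ![e, e, 0], ![e, 0, e], ![e, e, e], ![0, e, 0]]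
  refine ⟨T, fun k h hk => ?_, fun h k k' hk => ?_⟩
  · fin_cases k <;> simp only [T, Fin.reduceFinMk, Matrix.cons_val, smul_triple] at hk
    exacts [hg h hk.1, hg h hk.1, hg h hk.1, hg h hk.1, hg h hk.2.1]
  · fin_cases k <;> fin_cases k' <;>
      simp only [T, Fin.reduceFinMk, Matrix.cons_val, smul_triple, smul_zero] at hk <;>
      first
      | rfl
      | exact absurd ((smul_eq_zero_iff_eq h).1 hk.1) he
      | exact absurd ((smul_eq_zero_iff_eq h).1 hk.2.1) he
      | exact absurd ((smul_eq_zero_iff_eq h).1 hk.2.2) he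
      | exact absurd hk.1.symm he
      | exact absurd hk.2.1.symm he
      | exact absurd hk.2.2.symm he

/-- Five orbits from a good pair. -/
theorem five_of_two {v : Fin 2 → W} (hv : LinearIndependent (ZMod p) v)
    (hg : ∀ h : H, h • v = v → ∀ w : W, h • w = w) : FiveOrbits H W := by
  have ha : v 0 ≠ 0 := hv.ne_zero 0
  have hb : v 1 ≠ 0 := hv.ne_zero 1
  have hab : v 0 ≠ v 1 := fun e => absurd (hv.injective e) (by decide)
  have hsum : v 0 + v 1 ≠ 0 := fun e => one_ne_zero
    ((Fintype.linearIndependent_iff.1 hv) (fun _ => 1) (by rw [Fin.sum_univ_two, one_smul, one_smul, e]) 0)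
  have hg' : ∀ h : H, h • v 0 = v 0 → h • v 1 = v 1 → ∀ w : W, h • w = w := fun h h0 h1 =>
    hg h (funext fun i => by fin_cases i <;> assumption)
  let T : Fin 5 → Fin 3 → W :=
    ![![v 0, v 1, 0], ![v 0, v 1, v 0], ![v 0, v 1, v 1], ![v 0, v 1, v 0 + v 1], ![v 0, 0, v 1]]
  refine ⟨T, fun k h hk => ?_, fun h k k' hk => ?_⟩
  · fin_cases k <;> simp only [T, Fin.reduceFinMk, Matrix.cons_val, smul_triple] at hk
    exacts [hg' h hk.1 hk.2.1, hg' h hk.1 hk.2.1, hg' h hk.1 hk.2.1, hg' h hk.1 hk.2.1, hg' h hk.1 hk.2.2]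
  · fin_cases k <;> fin_cases k' <;>
      simp only [T, Fin.reduceFinMk, Matrix.cons_val, smul_triple, smul_zero, smul_add] at hk <;>
      obtain ⟨e0, e1, e2⟩ := hk <;>
      try simp only [e0, e1] at e2
    all_goals
      first
      | rfl
      | exact absurd e1.symm hb
      | exact absurd ((smul_eq_zero_iff_eq h).1 e1) hb
      | exact absurd e2 ha
      | exact absurd e2.symm ha
      | exact absurd e2 hb
      | exact absurd e2.symm hb
      | exact absurd e2 hab
      | exact absurd e2.symm hab
      | exact absurd e2 hsum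
      | exact absurd e2.symm hsum
      | exact absurd (left_eq_add.1 e2) hb
      | exact absurd (add_eq_left.1 e2) hb
      | exact absurd (right_eq_add.1 e2) ha
      | exact absurd (add_eq_right.1 e2) ha

/-- Five orbits from an independent good triple. -/
theorem five_of_three [Group.IsSolvable H] {v : Fin 3 → W} (hv : LinearIndependent (ZMod p) v)
    (hg : GoodTriple H v) : FiveOrbits H W := by
  classical
  let comb : Matrix (Fin 3) (Fin 3) (ZMod p) → Fin 3 → W := fun M i => ∑ j, M i j • v j
  have hinj : Function.Injective comb := fun M N e => by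
    funext i
    have h := Fintype.linearIndependent_iff.1 hv (fun j => M i j - N i j) (by
      simp only [sub_smul, Finset.sum_sub_distrib, sub_eq_zero]
      exact congrFun e i)
    funext j
    exact sub_eq_zero.1 (h j)
  have hone : comb 1 = v := funext fun i => by simp [comb, Matrix.one_apply, ite_smul]
  have hact : ∀ (h : H) M N, h • v = comb N → h • comb M = comb (M * N) := fun h M N e => funext fun i => by
    have e' : ∀ j, h • v j = ∑ l, N j l • v l := fun j => congrFun e j
    show h • ∑ j, M i j • v j = _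
    simp only [Finset.smul_sum, smul_zmod, e', smul_smul, comb, Matrix.mul_apply, Finset.sum_smul]
    exact Finset.sum_comm
  let S : Subgroup H :=
    { carrier := {h | ∃ N : GL (Fin 3) (ZMod p), h • v = comb N}
      one_mem' := ⟨1, by rw [one_smul]; exact hone.symm⟩
      mul_mem' := fun {a b} ⟨A, eA⟩ ⟨B, eB⟩ => ⟨B * A, by rw [mul_smul, eB, hact a _ _ eA]; rfl⟩
      inv_mem' := fun {a} ⟨A, eA⟩ => ⟨A⁻¹, by
        rw [inv_smul_eq_iff, hact a _ _ eA, ← Units.val_mul, inv_mul_cancel, Units.val_one, hone]⟩ }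
  choose N hN using fun h : S => h.2
  let φ : S →* GL (Fin 3) (ZMod p) := MonoidHom.mk' (fun h => N h⁻¹) fun a b => by
    refine Units.ext (hinj ?_)
    rw [← hN, Units.val_mul, _root_.mul_inv_rev]
    show (b⁻¹.1 * a⁻¹.1) • v = _
    rw [mul_smul, hN a⁻¹, hact b⁻¹.1 _ _ (hN b⁻¹)]
  have hK : Group.IsSolvable φ.range := Group.isSolvable_of_surjective φ.rangeRestrict_surjective
  obtain ⟨x, hx⟩ := five_cosets hK
  refine ⟨fun k => comb (x k), fun k h hk => hg h ?_, fun h k k' hk => hx k k' ?_⟩
  · funext i
    show h • v i = v i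
    have e : v i = ∑ j, ((x k)⁻¹ : GL (Fin 3) (ZMod p)) i j • comb (x k) j := by
      rw [← congrFun hone i, ← Units.val_one, ← inv_mul_cancel (x k), Units.val_mul]
      simp only [comb, Finset.smul_sum, smul_smul, Matrix.mul_apply, Finset.sum_smul]
      exact Finset.sum_comm
    conv_lhs => rw [e]
    rw [Finset.smul_sum]
    simp only [smul_zmod]
    conv_rhs => rw [e]
    exact Finset.sum_congr rfl fun j _ => by rw [show h • comb (x k) j = comb (x k) j from congrFun hk j]
  · let N' : GL (Fin 3) (ZMod p) := (x k)⁻¹ * x k'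
    have hhv : h • v = comb N' := by
      funext i
      have e : v i = ∑ j, ((x k)⁻¹ : GL (Fin 3) (ZMod p)) i j • comb (x k) j := by
        rw [← congrFun hone i, ← Units.val_one, ← inv_mul_cancel (x k), Units.val_mul]
        simp only [comb, Finset.smul_sum, smul_smul, Matrix.mul_apply, Finset.sum_smul]
        exact Finset.sum_comm
      show h • v i = _
      rw [e, Finset.smul_sum]
      simp only [smul_zmod, show ∀ j, h • comb (x k) j = comb (x k') j from fun j => congrFun hk j]
      simp only [N', Units.val_mul, comb, Finset.smul_sum, smul_smul, Matrix.mul_apply, Finset.sum_smul]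
      exact Finset.sum_comm
    refine ⟨(⟨h, N', hhv⟩ : S)⁻¹, ?_⟩
    show N (⟨h, N', hhv⟩ : S)⁻¹⁻¹ = N'
    refine Units.ext (hinj ?_)
    rw [← hN, inv_inv]
    exact hhv

omit [Module (ZMod p) W] in
theorem five_orbits_module (r : ℕ) [Fact r.Prime] [Module (ZMod r) W] [Finite W] [Nontrivial W]
    [Group.IsSolvable H] {T : Fin 3 → W}
    (hT : GoodTriple H T) : FiveOrbits H W := by
  classical
  obtain ⟨b, hbT, hspan, hli⟩ := exists_linearIndependent (ZMod r) (Set.range T)
  have hgood : ∀ h : H, (∀ u ∈ b, h • u = u) → ∀ w : W, h • w = w := by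
    intro h hb
    refine hT h (funext fun i => ?_)
    have hi : T i ∈ (Submodule.span (ZMod r) (Set.range T) : Submodule (ZMod r) W) :=
      Submodule.mem_span_of_mem (Set.mem_range_self i)
    rw [← hspan] at hi
    show h • T i = T i
    generalize T i = z at hi ⊢
    induction hi using Submodule.span_induction with
    | mem u hu => exact hb u hu
    | zero => exact smul_zero h
    | add u w _ _ hu hw => rw [smul_add, hu, hw]
    | smul c u _ hu => rw [smul_zmod, hu]
  have hb3 : b.ncard ≤ 3 := (Set.ncard_le_ncard hbT (Set.toFinite _)).trans (by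
    rw [← Nat.card_coe_set_eq]; exact (Finite.card_range_le T).trans (by simp))
  interval_cases hn : b.ncard
  · rw [Set.ncard_eq_zero] at hn
    obtain ⟨e, he⟩ := exists_ne (0 : W)
    exact five_of_one he fun h _ => hgood h (by simp [hn])
  · obtain ⟨e, rfl⟩ := Set.ncard_eq_one.1 hn
    exact five_of_one (e := e) (by simpa using hli.ne_zero (⟨e, Set.mem_singleton e⟩ : ({e} : Set W))) fun h he => hgood h (by simpa using he)
  · have hc : Nat.card b = 2 := hn
    let e := (Finite.equivFinOfCardEq hc).symm
    refine five_of_two (p := r) (v := fun i => (e i).1) (hli.comp e e.injective) fun h he => hgood h fun u hu => ?_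
    have := congrFun he (e.symm ⟨u, hu⟩)
    simpa using this
  · have hc : Nat.card b = 3 := hn
    let e := (Finite.equivFinOfCardEq hc).symm
    refine five_of_three (p := r) (v := fun i => (e i).1) (hli.comp e e.injective) fun h he => hgood h fun u hu => ?_
    have := congrFun he (e.symm ⟨u, hu⟩)
    simpa using this

omit [Module (ZMod p) W] in
/-- A good triple gives five orbits of good triples. -/
theorem five_orbits [Finite W] [Nontrivial W] [Group.IsSolvable H] (hp : ∀ w : W, p • w = 0) {T : Fin 3 → W}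
    (hT : GoodTriple H T) : FiveOrbits H W :=
  @five_orbits_module H W _ _ _ p _ (AddCommGroup.zmodModule hp) _ _ _ T hT

end Cfsg.Agent.BaseThree
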