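import Cfsg.Agent.BaseTwo.Phase

/-!
A path on the standard basis with a marked end has no symmetries.
-/

set_option autoImplicit false

namespace Cfsg.Agent.BaseThree

open BaseTwo

variable {r : ℕ} [Fact r.Prime]

/-- The edges of the path. -/
def edge (r m : ℕ) (a : Fin m → ZMod r) : Prop :=
  ∃ i j : Fin m, j.1 = i.1 + 1 ∧ a = sg r i + sg r j

/-- The vertices other than the end. -/
def vert (r m : ℕ) (a : Fin m → ZMod r) : Prop := ∃ i : Fin m, i.1 ≠ 0 ∧ a = sg r i

/-- The end of the path. -/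
def tip (r m : ℕ) (a : Fin m → ZMod r) : Prop := ∃ i : Fin m, i.1 = 0 ∧ a = sg r i

theorem sg_add_apply {m : ℕ} {i j : Fin m} (h : i ≠ j) :
    (sg r i + sg r j) i = 1 ∧ (sg r i + sg r j) j = 1 := by
  simp [sg, h, Ne.symm h]

theorem edge_ne_sg {m : ℕ} {a : Fin m → ZMod r} (h : edge r m a) (k : Fin m) : a ≠ sg r k := by
  obtain ⟨i, j, hij, rfl⟩ := h
  have hne : i ≠ j := fun e => by rw [e] at hij; omega
  intro e
  obtain ⟨h1, h2⟩ := sg_add_apply (r := r) hne
  rw [e] at h1 h2
  by_cases hik : i = k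
  · exact hne (hik.trans (by_contra fun h' => by simp [sg, Pi.single_eq_of_ne (Ne.symm h')] at h2))
  · simp [sg, Pi.single_eq_of_ne hik] at h1

theorem edge_ne_zero {m : ℕ} {a : Fin m → ZMod r} (h : edge r m a) : a ≠ 0 := by
  obtain ⟨i, j, hij, rfl⟩ := h
  have hne : i ≠ j := fun e => by rw [e] at hij; omega
  intro e
  have := (sg_add_apply (r := r) hne).1
  rw [e] at this
  simp at this

theorem vert_not_tip {m : ℕ} {a : Fin m → ZMod r} (h : vert r m a) : ¬ tip r m a := by
  obtain ⟨i, hi, rfl⟩ := h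
  rintro ⟨j, hj, e⟩
  rw [sg_inj e] at hi
  exact hi hj

/-- The path has no symmetries. -/
theorem rigid {m : ℕ} (π : (Fin m → ZMod r) →+ (Fin m → ZMod r)) (hinj : Function.Injective π)
    (ht : ∀ a, tip r m a → π a = a) (hv : ∀ a, vert r m a → vert r m (π a))
    (he : ∀ a, edge r m a → edge r m (π a)) : ∀ a, π a = a := by
  suffices h : ∀ (k : ℕ) (i : Fin m), i.1 = k → π (sg r i) = sg r i by
    intro a
    have ha : a ∈ AddSubgroup.closure (Set.range (sg r (m := m))) := closure_sg (r := r) ▸ AddSubgroup.mem_top a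
    induction ha using AddSubgroup.closure_induction with
    | mem x hx => obtain ⟨i, rfl⟩ := hx; exact h i.1 i rfl
    | zero => exact map_zero π
    | add x y _ _ hx hy => rw [map_add, hx, hy]
    | neg x _ hx => rw [map_neg, hx]
  intro k
  induction k using Nat.strong_induction_on with
  | _ k ih =>
  intro i hi
  rcases Nat.eq_zero_or_pos k with rfl | hk
  · exact ht _ ⟨i, hi, rfl⟩
  obtain ⟨j, hj⟩ : ∃ j : Fin m, j.1 + 1 = i.1 := ⟨⟨i.1 - 1, by omega⟩, show i.1 - 1 + 1 = i.1 by omega⟩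
  have hpj := ih j.1 (by omega) j rfl
  obtain ⟨l, hl, el⟩ := hv _ ⟨i, by omega, rfl⟩
  obtain ⟨a, b, hab, eab⟩ := he _ ⟨j, i, by omega, rfl⟩
  rw [map_add, hpj, el] at eab
  have hane : a ≠ b := fun e => by rw [e] at hab; omega
  have hjl : j ≠ l := by
    intro e
    rw [← e, ← hpj] at el
    have := sg_inj (hinj el)
    rw [this] at hj
    omega
  have hmem : ∀ c : Fin m, (sg r j + sg r l : Fin m → ZMod r) c = 1 → c = j ∨ c = l := by
    intro c hc
    by_contra h
    rw [not_or] at h
    simp [sg, h.1, h.2] at hc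
  obtain ⟨ha1, hb1⟩ := sg_add_apply (r := r) hane
  rw [← eab] at ha1 hb1
  rcases hmem a ha1 with rfl | rfl <;> rcases hmem b hb1 with rfl | rfl
  · exact absurd rfl hane
  · rw [el, show b = i from Fin.ext (by omega)]
  · -- the edge goes back
    have hb : b.1 = a.1 + 1 := hab
    exfalso
    have hjr : π (sg r a) = sg r a := ih a.1 (by omega) a rfl
    rw [← hjr] at el
    have := sg_inj (hinj el)
    rw [this] at hi
    omega
  · exact absurd rfl hane

end Cfsg.Agent.BaseThree
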