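import Cfsg.Agent.BaseTwo.Scalar
import Cfsg.Agent.BaseThree.Rigid

/-!
The local solution with three vectors: no assumption on the order of the group.
-/

set_option autoImplicit false
set_option maxHeartbeats 1000000

namespace Cfsg.Agent.BaseThree

open BaseTwo

variable {r n m : ℕ} [Fact r.Prime] {K V A Ω Q : Type*} [Field K] [AddCommGroup V] [Module K V] [Group A]
  [DistribMulAction A V] [AddCommGroup Ω] [DistribMulAction A Ω] [AddCommGroup Q]

/-- A solution by three vectors at `x`. -/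
def SolvedAt3 (S : PS r n K V A Ω) (x : V) : Prop :=
  ∃ P ∈ S.alg, ∃ f₁ ∈ S.alg, ∃ f₂ ∈ S.alg, ∃ v : Ω, P x = x ∧ (∀ w, ∃ k : K, P (S.op w x) = k • x) ∧
    (v = 0 ∨ f₁ = 0 ∧ Nat.card K = 3 ∧ ∀ k : K, S.op v x ≠ k • x) ∧
    ∀ g : A, g • x = x → (∀ s : K, g • f₁ x - f₁ x = s • x → s = 0) ∧
      (g • f₁ x = f₁ x → S.σ g = RingEquiv.refl K → ∀ s : K, g • f₂ x - f₂ x = s • x →
        g • S.op v x - S.op v x = s • x ∧ (s = 0 → S.Centralises g))

/-- The local problem for three vectors has a solution. -/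
def Solvable3 (S : PS r n K V A Ω) : Prop :=
  ∃ Es : Set (Module.End K V), Es ⊆ S.alg ∧
    (∀ U : Submodule K V, (∀ v, ∀ u ∈ U, S.op v u ∈ U) → U ≠ ⊥ →
      ∃ x ∈ U, x ≠ 0 ∧ ∀ e ∈ Es, e x = x) ∧
    ∀ x : V, x ≠ 0 → (∀ e ∈ Es, e x = x) → SolvedAt3 S x

variable [Nontrivial V] {S : PS r n K V A Ω} (F : Frame S m Q) {x : V}

theorem lfix_smul_algH (hl : F.LFix x) (hx : x ≠ 0) (hgen : ∀ (h : Q) (c : K), S.op (F.H h) x = c • x → h = 0)
    {g : A} (hg : g • x = x) {e : Module.End K V} (he : e ∈ F.algH) : F.LFix (g • e x) := by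
  induction he using Submodule.span_induction with
  | mem y hy =>
    obtain ⟨h, rfl⟩ := hy
    obtain ⟨c, hc, e⟩ := S.conj g (F.H h)
    rw [e, hg]
    have hcc := F.ccoord hx hg hl hgen (w := F.H h)
      (by rw [show F.ι.symm (F.H h) = ((0, 0), h) from F.ι.symm_apply_apply _])
    obtain ⟨u, hu, eu⟩ := S.op_mul (F.H (F.ι.symm (g • F.H h)).2) (F.L (F.ι.symm (g • F.H h)).1.2)
    obtain ⟨l, hl', el⟩ := F.op_L (F.ι.symm (g • F.H h)).1.2
    have h1 := eu x
    rw [el x hl, map_smul, add_comm (F.H _), ← F.iota_L_H _ hcc] at h1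
    intro i
    rw [← inv_smul_smul₀ (S.root_ne hu) (S.op (g • F.H h) x), ← h1]
    simp only [map_smul]
    rw [F.lfix_H hl _ i]
  | zero => intro i; simp
  | add a b _ _ ha hb => intro i; simp only [LinearMap.add_apply, smul_add, map_add]; rw [ha i, hb i]
  | smul a b _ hb => intro i; simp only [LinearMap.smul_apply, S.semi, map_smul]; rw [hb i]

theorem proj_injective (hx : x ≠ 0) (hl : F.LFix x)
    (hgen : ∀ (h : Q) (c : K), S.op (F.H h) x = c • x → h = 0) {g : A} (hg : g • x = x) :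
    Function.Injective (F.proj g) := by
  intro a b h
  have hi : g⁻¹ • x = x := by rw [inv_smul_eq_iff, hg]
  have := congrArg (F.proj g⁻¹) h
  rwa [← F.proj_mul x hx hi hl hgen, ← F.proj_mul x hx hi hl hgen, inv_mul_cancel, F.proj_one, F.proj_one] at this

theorem tauT_inj (a : Fin m → ZMod r) : Function.Injective (F.tauT a) := by
  obtain ⟨c, hc, e⟩ := F.tauT_scalar a
  intro z w h
  rw [e] at h
  exact S.op_inj _ (smul_right_injective V (S.root_ne hc) h)

variable [Finite A]

/-- The components of an equation. -/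
theorem components (hx : x ≠ 0) (hl : F.LFix x)
    (hgen : ∀ (h : Q) (c : K), S.op (F.H h) x = c • x → h = 0)
    (f0 : Module.End K V) (hf0 : f0 ∈ F.algH) (Z : (Fin m → ZMod r) → Module.End K V)
    (hZ : ∀ a, Z a ∈ F.algH) (hZ0 : Z 0 = 0) {g : A} (hg : g • x = x) {s : K}
    (hs : g • (f0 + ∑ a, F.tauT a * Z a) x - (f0 + ∑ a, F.tauT a * Z a) x = s • x) :
    g • f0 x - f0 x = s • x ∧ ∀ a, g • F.tauT a (Z a x) = F.tauT (F.proj g a) (Z (F.proj g a) x) := by
  classical
  obtain ⟨M⟩ := F.exists_move g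
  have hgalg : ∀ e ∈ F.algH, F.LFix (g • e x) := fun e he => lfix_smul_algH F hl hx hgen hg he
  let π : (Fin m → ZMod r) ≃ (Fin m → ZMod r) :=
    Equiv.ofBijective (F.proj g) ((Finite.injective_iff_bijective).1 (proj_injective F hx hl hgen hg))
  have hπ : ∀ a, π a = F.proj g a := fun a => rfl
  have hπ0 : π.symm 0 = 0 := by rw [Equiv.symm_apply_eq, hπ, map_zero]
  let w : (Fin m → ZMod r) → V := fun a =>
    (if a = 0 then g • f0 x - f0 x - s • x else 0) + g • F.tauT (π.symm a) (Z (π.symm a) x) - F.tauT a (Z a x)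
  have hw : ∀ a ∈ (Finset.univ : Finset (Fin m → ZMod r)), ∀ i,
      S.op (F.L (Pi.single i 1)) (w a) = F.chi (a i) • w a := by
    intro a _ i
    have h2 : S.op (F.L (Pi.single i 1)) (g • F.tauT (π.symm a) (Z (π.symm a) x)) =
        F.chi (a i) • g • F.tauT (π.symm a) (Z (π.symm a) x) := by
      rw [M.fixed _ _ (hgalg _ (hZ _)), ← hπ, Equiv.apply_symm_apply, map_smul,
        F.l_tauT i a (F.algH_lfix (Submodule.subset_span ⟨_, rfl⟩) (hgalg _ (hZ _))), smul_comm]
    simp only [w]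
    split_ifs with ha
    · subst ha
      simp only [map_add, map_sub, map_smul, h2, F.l_tauT i 0 (F.algH_lfix (hZ 0) hl), smul_add, smul_sub,
        (hgalg f0 hf0) i, (F.algH_lfix hf0 hl) i, hl i]
      simp [Frame.chi]
    · rw [zero_add, map_sub, h2, F.l_tauT i a (F.algH_lfix (hZ a) hl), smul_sub]
  have hsum : ∑ a, w a = 0 := by
    simp only [w, Finset.sum_sub_distrib, Finset.sum_add_distrib]
    rw [Finset.sum_ite_eq' Finset.univ (0 : Fin m → ZMod r), if_pos (Finset.mem_univ _),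
      π.symm.sum_comp (fun a => g • F.tauT a (Z a x))]
    simp only [LinearMap.add_apply, LinearMap.sum_apply, Module.End.mul_apply, smul_add,
      Finset.smul_sum] at hs
    rw [← hs]
    abel
  have hcomp := F.independent Finset.univ w hw hsum
  refine ⟨?_, fun a => ?_⟩
  · have := hcomp 0 (Finset.mem_univ _)
    simp only [w, if_pos, hπ0, hZ0, LinearMap.zero_apply, map_zero, smul_zero, add_zero, sub_zero] at this
    exact sub_eq_zero.1 this
  · by_cases ha : a = 0
    · subst ha; simp [hZ0]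
    have hne : F.proj g a ≠ 0 := fun e => ha (proj_injective F hx hl hgen hg (e.trans (map_zero _).symm))
    have := hcomp (F.proj g a) (Finset.mem_univ _)
    simp only [w, if_neg hne, zero_add, show π.symm (F.proj g a) = a from π.symm_apply_apply a, sub_eq_zero] at this
    exact this

/-- The projection to the line of the fixed vector. -/
theorem projection (hrK : (r : K) ≠ 0) (hl : F.LFix x)
    (PQ : Module.End K V) (hPQm : PQ ∈ S.alg) (hPQ : PQ x = x)
    (hPQH : ∀ h, ∃ k : K, PQ (S.op (F.H h) x) = k • x) :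
    ∃ P ∈ S.alg, P x = x ∧ ∀ w, ∃ k : K, P (S.op w x) = k • x := by
  classical
  refine ⟨PQ * F.proj0, S.mul_mem_alg hPQm (F.projL_mem _), ?_, fun v => ?_⟩
  · have h0 := F.proj0_tauT hrK hl 0
    rw [if_pos rfl, F.tauT_zero, Module.End.one_apply] at h0
    rw [Module.End.mul_apply, h0, hPQ]
  obtain ⟨c, hc, ec⟩ := F.tauT_scalar (F.ι.symm v).1.1
  obtain ⟨u, hu, eu⟩ := S.op_mul (F.H (F.ι.symm v).2) (F.L (F.ι.symm v).1.2)
  obtain ⟨u', hu', eu'⟩ := S.op_mul (F.T (F.ι.symm v).1.1) (F.H (F.ι.symm v).2 + F.L (F.ι.symm v).1.2)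
  obtain ⟨l, hl', el⟩ := F.op_L (F.ι.symm v).1.2
  have hv : S.op v x = (u'⁻¹ * u⁻¹ * c⁻¹ * l) • F.tauT (F.ι.symm v).1.1 (S.op (F.H (F.ι.symm v).2) x) := by
    have h1 := eu x
    rw [el x hl, map_smul] at h1
    have h2 := eu' x
    rw [show F.T (F.ι.symm v).1.1 + (F.H (F.ι.symm v).2 + F.L (F.ι.symm v).1.2) = v by
      rw [add_comm (F.H _), ← add_assoc]; exact (F.split v).symm] at h2
    have h3 := congrArg (S.op (F.T (F.ι.symm v).1.1)) h1
    rw [map_smul, map_smul, h2, smul_smul] at h3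
    rw [ec, LinearMap.smul_apply, smul_smul,
      show u'⁻¹ * u⁻¹ * c⁻¹ * l * c = u'⁻¹ * u⁻¹ * l by field_simp [S.root_ne hc], mul_smul, h3, smul_smul,
      show u'⁻¹ * u⁻¹ * (u * u') = 1 by field_simp [S.root_ne hu, S.root_ne hu'], one_smul]
  obtain ⟨k, hk⟩ := hPQH (F.ι.symm v).2
  rw [hv, Module.End.mul_apply, map_smul, F.proj0_tauT hrK (F.lfix_H hl _)]
  split_ifs
  · exact ⟨_, by rw [map_smul, hk, smul_smul]⟩
  · exact ⟨0, by simp⟩

/-- The translated vectors are permuted, hence so are the coefficients. -/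
theorem transfer (hx : x ≠ 0) (hl : F.LFix x)
    (hgen : ∀ (h : Q) (c : K), S.op (F.H h) x = c • x → h = 0) {g : A} (hg : g • x = x)
    (hτ : ∀ a, g • F.tauT a x = F.tauT (F.proj g a) x) (a : Fin m → ZMod r) {e : Module.End K V}
    (he : e ∈ F.algH) : g • F.tauT a (e x) = F.tauT (F.proj g a) (g • e x) := by
  obtain ⟨M⟩ := F.exists_move g
  have h1 := M.fixed a x (by rw [hg]; exact hl)
  rw [hg, hτ] at h1
  have h2 : x = M.d a • S.op (F.H (M.h a)) x := tauT_inj F _ (by rw [map_smul]; exact h1)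
  have hd : M.d a ≠ 0 := S.root_ne (M.d_pow a)
  have hh : M.h a = 0 := hgen _ (M.d a)⁻¹ (by conv_rhs => rw [h2, inv_smul_smul₀ hd])
  rw [hh, map_zero, S.op_zero, Module.End.one_apply] at h2
  have hd1 : M.d a = 1 := PS.smul_inj hx (h2.symm.trans (one_smul K x).symm)
  rw [M.fixed a _ (lfix_smul_algH F hl hx hgen hg he), hd1, one_smul, hh, map_zero, S.op_zero, Module.End.one_apply]

/-- An element fixing the frame vectors centralises the system. -/
theorem centralises (hx : x ≠ 0) (hl : F.LFix x)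
    (hgen : ∀ (h : Q) (c : K), S.op (F.H h) x = c • x → h = 0) {g : A} (hg : g • x = x)
    (hσ : S.σ g = RingEquiv.refl K) (hid : ∀ a, F.proj g a = a) (hτ : ∀ a, g • F.tauT a x = F.tauT a x)
    (hH : ∀ h, g • S.op (F.H h) x = S.op (F.H h) x) : S.Centralises g := by
  have hlin : ∀ (c : K) (z : V), g • (c • z) = c • (g • z) := fun c z => by
    rw [S.semi, hσ, RingEquiv.refl_apply]
  have hall : ∀ v, g • S.op v x = S.op v x := by
    intro v
    obtain ⟨c, hc, ec⟩ := F.tauT_scalar (F.ι.symm v).1.1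
    obtain ⟨u, hu, eu⟩ := S.op_mul (F.H (F.ι.symm v).2) (F.L (F.ι.symm v).1.2)
    obtain ⟨u', hu', eu'⟩ := S.op_mul (F.T (F.ι.symm v).1.1) (F.H (F.ι.symm v).2 + F.L (F.ι.symm v).1.2)
    obtain ⟨l, hl', el⟩ := F.op_L (F.ι.symm v).1.2
    have key := transfer F hx hl hgen hg (fun a => by rw [hid]; exact hτ a) (F.ι.symm v).1.1
      (Submodule.subset_span ⟨(F.ι.symm v).2, rfl⟩ : S.op (F.H (F.ι.symm v).2) ∈ F.algH)
    rw [hid, hH, ec, LinearMap.smul_apply, hlin] at key
    have key' := smul_right_injective V (S.root_ne hc) key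
    have h1 := eu x
    rw [el x hl, map_smul] at h1
    have h2 := eu' x
    rw [show F.T (F.ι.symm v).1.1 + (F.H (F.ι.symm v).2 + F.L (F.ι.symm v).1.2) = v by
      rw [add_comm (F.H _), ← add_assoc]; exact (F.split v).symm] at h2
    have h3 := congrArg (S.op (F.T (F.ι.symm v).1.1)) h1
    rw [map_smul, map_smul, h2, smul_smul] at h3
    have h4 := congrArg (g • ·) h3
    simp only [hlin] at h4
    rw [key', h3] at h4
    exact (smul_right_injective V (mul_ne_zero (S.root_ne hu) (S.root_ne hu')) h4).symm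
  intro v z
  obtain ⟨c, hc, ec⟩ := S.conj g v
  obtain ⟨e, he, ee⟩ := S.op_mul (g • v - v) v
  have hb : ∀ w, c • S.op (g • v) (S.op w x) = S.op v (S.op w x) := by
    intro w
    obtain ⟨q, hq, eq⟩ := S.op_mul v w
    have := ec (S.op w x)
    rw [eq, hlin, hall, hall] at this
    rw [eq, ← this]
  have hδ : ∀ w, S.op (g • v - v) (S.op w x) = (e * c⁻¹) • S.op w x := by
    intro w
    obtain ⟨q, hq, eq⟩ := S.op_mul v (w - v)
    rw [add_sub_cancel] at eq
    have h1 := ee (S.op (w - v) x)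
    rw [sub_add_cancel, eq, map_smul] at h1
    have h2 := hb (w - v)
    rw [eq] at h2
    rw [← inv_smul_smul₀ (S.root_ne hc) (S.op (g • v) (S.op (w - v) x)), h2, smul_smul, smul_smul] at h1
    have h3 : q • S.op (g • v - v) (S.op w x) = q • ((e * c⁻¹) • S.op w x) := by
      rw [h1, smul_smul]; congr 1; ring
    exact smul_right_injective V (S.root_ne hq) h3
  have hgv : g • v = v := sub_eq_zero.1 (S.nondeg _ fun w => by
    have h0 := hδ 0
    rw [S.op_zero, Module.End.one_apply] at h0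
    have hw := hδ w
    rw [S.op_comm, h0, map_smul, smul_smul] at hw
    have h4 := PS.smul_inj (S.op_ne hx) hw
    exact mul_right_cancel₀ (mul_ne_zero (S.root_ne he) (inv_ne_zero (S.root_ne hc)))
      (h4.trans (one_mul _).symm))
  have hc1 : c = 1 := by
    have h0 := hb 0
    rw [S.op_zero, Module.End.one_apply, hgv] at h0
    exact PS.smul_inj (S.op_ne hx) (h0.trans (one_smul K _).symm)
  rw [ec, hgv, hc1, one_smul]

open scoped Classical in
/-- The second colouring, with the value `E` at the tip. -/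
noncomputable def col2 (r m : ℕ) (k : K) (E : Module.End K V) (a : Fin m → ZMod r) : Module.End K V :=
  if tip r m a then E else if vert r m a then 1 else if edge r m a then k • 1 else 0

theorem col2_zero (k : K) (E : Module.End K V) : col2 r m k E 0 = 0 := by
  have h1 : ¬ tip r m 0 := fun ⟨i, _, e⟩ => sg_ne_zero i e.symm
  have h2 : ¬ vert r m 0 := fun ⟨i, _, e⟩ => sg_ne_zero i e.symm
  have h3 : ¬ edge r m 0 := fun h => edge_ne_zero h rfl
  simp [col2, h1, h2, h3]

theorem col2_mem (k : K) {E : Module.End K V} (hE : E ∈ F.algH) (a : Fin m → ZMod r) :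
    col2 r m k E a ∈ F.algH := by
  unfold col2
  split_ifs
  exacts [hE, F.one_mem_algH, Submodule.smul_mem _ _ F.one_mem_algH, zero_mem _]

/-- A permutation preserving the second colouring and the tip is trivial. -/
theorem col2_rigid {k : K} (hk0 : k ≠ 0) (hk1 : k ≠ 1) {E : Module.End K V} (hx : x ≠ 0)
    (π : (Fin m → ZMod r) →+ (Fin m → ZMod r)) (hinj : Function.Injective π)
    (ht : ∀ a, tip r m a → π a = a) (h : ∀ a, ¬ tip r m a → col2 r m k E (π a) x = col2 r m k E a x) :
    ∀ a, π a = a := by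
  have hnt : ∀ a, ¬ tip r m a → ¬ tip r m (π a) := fun a ha hpa => ha (by
    rw [← hinj (show π (π a) = π a from ht _ hpa)]; exact hpa)
  have hval : ∀ a, ¬ tip r m a → (vert r m a → col2 r m k E a x = (1 : K) • x) ∧
      (¬ vert r m a → edge r m a → col2 r m k E a x = k • x) ∧
      (¬ vert r m a → ¬ edge r m a → col2 r m k E a x = (0 : K) • x) := fun a ha =>
    ⟨fun hv => by simp [col2, ha, hv], fun hv he => by simp [col2, ha, hv, he],
      fun hv he => by simp [col2, ha, hv, he]⟩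
  refine rigid π hinj ht (fun a ha => ?_) fun a ha => ?_
  · have hta := vert_not_tip ha
    have e := h a hta
    rw [(hval a hta).1 ha] at e
    by_contra hv
    by_cases he : edge r m (π a)
    · rw [(hval _ (hnt a hta)).2.1 hv he] at e
      exact hk1 (PS.smul_inj hx e)
    · rw [(hval _ (hnt a hta)).2.2 hv he] at e
      exact zero_ne_one (PS.smul_inj hx e)
  · have hta : ¬ tip r m a := fun ⟨i, _, e⟩ => edge_ne_sg ha i e
    have hva : ¬ vert r m a := fun ⟨i, _, e⟩ => edge_ne_sg ha i e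
    have e := h a hta
    rw [(hval a hta).2.1 hva ha] at e
    by_contra he
    by_cases hv : vert r m (π a)
    · rw [(hval _ (hnt a hta)).1 hv] at e
      exact hk1 (PS.smul_inj hx e).symm
    · rw [(hval _ (hnt a hta)).2.2 hv he] at e
      exact hk0 (PS.smul_inj hx e).symm

include F in
/-- A split frame is solved by three vectors. -/
theorem solvable_split3 [Subsingleton Q] (hrK : (r : K) ≠ 0) (hK : ∃ k : K, k ≠ 0 ∧ k ≠ 1) :
    Solvable3 S := by
  classical
  obtain ⟨k, hk0, hk1⟩ := hK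
  refine ⟨Set.range fun i => S.op (F.L (Pi.single i 1)), ?_, ?_, ?_⟩
  · rintro _ ⟨i, rfl⟩; exact S.op_mem _
  · intro U hU hne
    obtain ⟨x, hxU, hx, hl⟩ := F.exists_lfix hrK U hU hne
    exact ⟨x, hxU, hx, by rintro _ ⟨i, rfl⟩; exact hl i⟩
  intro x hx hfix
  have hl : F.LFix x := fun i => hfix _ ⟨i, rfl⟩
  have hgen : ∀ (h : Q) (c : K), S.op (F.H h) x = c • x → h = 0 := fun h _ _ => Subsingleton.elim h 0
  obtain ⟨P, hP, hPx, hPop⟩ := projection F hrK hl 1 S.one_mem_alg rfl
    fun h => ⟨1, by rw [F.h_zero, S.op_zero, one_smul]; rfl⟩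
  let Z1 : (Fin m → ZMod r) → Module.End K V := fun a => if a = 0 ∨ tip r m a then 0 else 1
  have hZ1 : ∀ a, Z1 a ∈ F.algH := fun a => by
    simp only [Z1]; split_ifs; exacts [zero_mem _, F.one_mem_algH]
  let Z2 := col2 r m k (1 : Module.End K V)
  have hZ2 : ∀ a, Z2 a ∈ F.algH := col2_mem F k F.one_mem_algH
  have halg : ∀ Z : (Fin m → ZMod r) → Module.End K V, (∀ a, Z a ∈ F.algH) →
      (0 + ∑ a, F.tauT a * Z a) ∈ S.alg := fun Z hZ =>
    add_mem (zero_mem _) (Submodule.sum_mem _ fun a _ => S.mul_mem_alg (F.tauT_mem a) (F.algH_le (hZ a)))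
  refine ⟨P, hP, _, halg Z1 hZ1, _, halg Z2 hZ2, 0, hPx, hPop, Or.inl rfl, fun g hg => ?_⟩
  have c1 := fun s (hs : g • (0 + ∑ a, F.tauT a * Z1 a) x - (0 + ∑ a, F.tauT a * Z1 a) x = s • x) =>
    components F hx hl hgen 0 (zero_mem _) Z1 hZ1 (by simp [Z1]) hg hs
  have hs0 : ∀ s : K, g • (0 : Module.End K V) x - (0 : Module.End K V) x = s • x → s = 0 := fun s h => by
    simp only [LinearMap.zero_apply, smul_zero, sub_zero] at h
    exact (smul_eq_zero.1 h.symm).resolve_right hx
  refine ⟨fun s hs => hs0 s (c1 s hs).1, fun h1 hσ s hs => ?_⟩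
  obtain ⟨-, e1⟩ := c1 0 (by rw [h1, sub_self, zero_smul])
  obtain ⟨e2', e2⟩ := components F hx hl hgen 0 (zero_mem _) Z2 hZ2 (col2_zero k _) hg hs
  have hs00 : s = 0 := hs0 s e2'
  subst hs00
  rw [S.op_zero, Module.End.one_apply, hg, sub_self, zero_smul]
  refine ⟨rfl, fun _ => ?_⟩
  have hinj := proj_injective F hx hl hgen hg
  -- the tip is fixed
  have hzero : ∀ a, (a = 0 ∨ tip r m a) ↔ (F.proj g a = 0 ∨ tip r m (F.proj g a)) := fun a => by
    have h := e1 a
    simp only [Z1] at h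
    constructor <;> intro ha <;> by_contra hb
    · rw [if_pos ha, if_neg hb, LinearMap.zero_apply, map_zero, smul_zero] at h
      exact hx (tauT_inj F _ (by rw [map_zero]; exact h.symm))
    · rw [if_neg hb, if_pos ha, LinearMap.zero_apply, map_zero, Module.End.one_apply, smul_eq_zero_iff_eq] at h
      exact hx (tauT_inj F _ (by rw [map_zero]; exact h))
  have ht : ∀ a, tip r m a → F.proj g a = a := fun a ha => by
    obtain ⟨i, hi, rfl⟩ := ha
    rcases (hzero _).1 (Or.inr ⟨i, hi, rfl⟩) with h | ⟨j, hj, h⟩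
    · exact absurd (hinj (h.trans (map_zero _).symm)) (sg_ne_zero i)
    · rw [h, show j = i from Fin.ext (hj.trans hi.symm)]
  have hτ : ∀ a, g • F.tauT a x = F.tauT (F.proj g a) x := by
    intro a
    by_cases ha : a = 0
    · subst ha; simp [F.tauT_zero, hg]
    by_cases htip : tip r m a
    · have := e2 a
      simp only [Z2, col2, if_pos htip, if_pos (show tip r m (F.proj g a) by rw [ht a htip]; exact htip),
        Module.End.one_apply] at this
      exact this
    · have h0 : ¬ (a = 0 ∨ tip r m a) := not_or_intro ha htip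
      have := e1 a
      simp only [Z1, if_neg h0, if_neg (fun h => h0 ((hzero a).2 h)), Module.End.one_apply] at this
      exact this
  have hid : ∀ a, F.proj g a = a := col2_rigid (E := 1) hk0 hk1 hx (F.proj g) hinj ht fun a _ => by
    have := e2 a
    rw [transfer F hx hl hgen hg hτ a (hZ2 a)] at this
    have hfix : g • Z2 a x = Z2 a x := by
      simp only [Z2, col2]
      split_ifs <;> simp [S.semi, hσ, hg]
    rw [hfix] at this
    exact (tauT_inj F _ this).symm
  exact centralises F hx hl hgen hg hσ hid (fun a => by rw [hτ, hid]) fun h => by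
    rw [F.h_zero, S.op_zero]; exact hg

end Cfsg.Agent.BaseThree
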