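import Cfsg.Agent.BaseThree.System
import Mathlib.Data.Finset.NoncommProd

/-!
Three vectors (one of them fixed beforehand) for a group with a scalar maximal abelian normal subgroup.
-/

set_option autoImplicit false
set_option maxHeartbeats 1000000

universe u

namespace Cfsg.Agent.BaseThree

open BaseTwo BaseTwo.Setting
open scoped Pointwise

variable {K V : Type*} {G : Type u} [Field K] [AddCommGroup V] [Module K V] [Group G] [DistribMulAction G V]
  [Finite G] [Group.IsSolvable G] [Finite K] [Nontrivial V] (T : Setting K V G)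

include T in
/-- The global solution. -/
theorem exists_base3 : ∃ v₁ v₂ v₃ : V, ∀ g : G, g • v₁ = v₁ → g • v₂ = v₂ → g • v₃ = v₃ → g = 1 := by
  classical
  haveI := T.normal
  haveI := T.C_normal
  -- a maximal family of commuting chief factors
  obtain ⟨s, ⟨hch, hpw⟩, hmax⟩ := Set.Finite.exists_maximal
    (Set.toFinite {s : Set (Subgroup G) | (∀ D ∈ s, T.Chief D) ∧
      ∀ D ∈ s, ∀ D' ∈ s, D ≠ D' → ∀ a ∈ D, ∀ b ∈ D', a * b = b * a}) ⟨∅, by simp, by simp⟩
  have hloc : ∀ D : s, Local3 T D.1 := fun D => exists_local3 (hch D.1 D.2)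
  choose Es hEs hU hsolve using hloc
  haveI : Fintype s := Fintype.ofFinite s
  have hpw' : ∀ D D' : s, D ≠ D' → ∀ a ∈ D.1, ∀ b ∈ D'.1, a * b = b * a := fun D D' hne =>
    hpw D.1 D.2 D'.1 D'.2 fun h => hne (Subtype.ext h)
  -- a joint vector
  obtain ⟨x, hx, hfix⟩ : ∃ x : V, x ≠ 0 ∧ ∀ D : s, ∀ e ∈ Es D, e x = x := by
    suffices h : ∀ t : Finset s, ∃ x : V, x ≠ 0 ∧ ∀ D ∈ t, ∀ e ∈ Es D, e x = x by
      obtain ⟨x, hx, h⟩ := h Finset.univ
      exact ⟨x, hx, fun D => h D (Finset.mem_univ D)⟩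
    intro t
    induction t using Finset.induction with
    | empty =>
      obtain ⟨x, hx⟩ := exists_ne (0 : V)
      exact ⟨x, hx, by simp⟩
    | insert D t hDt ih =>
      let U : Submodule K V :=
        { carrier := {z | ∀ D' ∈ t, ∀ e ∈ Es D', e z = z}
          add_mem' := fun {a b} ha hb D' hD' e he => by rw [map_add, ha D' hD' e he, hb D' hD' e he]
          zero_mem' := fun D' _ e _ => map_zero e
          smul_mem' := fun k a ha D' hD' e he => by rw [map_smul, ha D' hD' e he] }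
      have hUD : ∀ d ∈ D.1, ∀ u ∈ U, d • u ∈ U := fun d hd u hu D' hD' e he => by
        rw [alg_comm (hpw' D' D fun h => hDt (h ▸ hD')) (hEs D' he) hd ((hch D.1 D.2).le hd), hu D' hD' e he]
      obtain ⟨x0, hx0, h0⟩ := ih
      obtain ⟨x, hxU, hx, hxe⟩ := hU D U hUD fun h => hx0 ((Submodule.eq_bot_iff U).1 h x0 h0)
      exact ⟨x, hx, fun D' hD' => by
        rcases Finset.mem_insert.1 hD' with rfl | h
        · exact hxe
        · exact hxU D' h⟩
  have hs := fun D => hsolve D x hx (hfix D)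
  choose P hP f₁ hf₁ f₂ hf₂ d₀ hd₀ hPx hPd hcase hg using hs
  -- the product of the other factors
  let M : Finset s → Subgroup G := fun t => t.sup fun D => D.1
  have hMC : ∀ t, M t ≤ T.C := fun t => Finset.sup_le fun D _ => (hch D.1 D.2).le
  have hMn : ∀ t, (M t).Normal := by
    intro t
    induction t using Finset.induction with
    | empty => simp only [M, Finset.sup_empty]; infer_instance
    | insert D t _ ih =>
      haveI := ih
      haveI := (hch D.1 D.2).normal
      simp only [M, Finset.sup_insert]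
      infer_instance
  have hMc : ∀ t D, D ∉ t → ∀ a ∈ D.1, ∀ m ∈ M t, a * m = m * a := by
    intro t D hD a ha m hm
    have h : M t ≤ Subgroup.centralizer {a} := Finset.sup_le fun D' hD' b hb => by
      rintro _ rfl
      exact hpw' D D' (fun h => hD (h ▸ hD')) _ ha b hb
    exact h hm a rfl
  have hQ : ∀ t : Finset s, ∃ Q : Module.End K V, Q x = x ∧
      (∀ D, D ∉ t → ∀ d ∈ D.1, ∀ z, Q (d • z) = d • Q z) ∧ ∀ m ∈ M t, ∃ k : K, Q (m • x) = k • x := by
    intro t
    induction t using Finset.induction with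
    | empty => exact ⟨1, rfl, fun D _ d _ z => rfl, fun m hm => ⟨1, by
        rw [show m = 1 by simpa [M] using hm, one_smul, one_smul]; rfl⟩⟩
    | insert D t hDt ih =>
      obtain ⟨Q, hQx, hQc, hQm⟩ := ih
      refine ⟨Q * P D, by rw [Module.End.mul_apply, hPx, hQx], fun D' hD' d hd z => ?_, fun m hm => ?_⟩
      · rw [Finset.mem_insert, not_or] at hD'
        rw [Module.End.mul_apply, Module.End.mul_apply,
          alg_comm (hpw' D D' (Ne.symm hD'.1)) (hP D) hd ((hch D'.1 D'.2).le hd), hQc D' hD'.2 d hd]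
      · haveI := hMn t
        have hmm : m ∈ (D.1 : Set G) * (M t : Set G) := by
          rw [← Subgroup.mul_normal]
          simpa only [M, Finset.sup_insert, SetLike.mem_coe] using hm
        obtain ⟨d, hd, m', hm', rfl⟩ := Set.mem_mul.1 hmm
        obtain ⟨k, hk⟩ := hPd D d hd
        obtain ⟨l, hl⟩ := hQm m' hm'
        refine ⟨k * l, ?_⟩
        rw [hMc t D hDt d hd m' hm', mul_smul, Module.End.mul_apply,
          alg_comm (fun a ha b hb => hMc t D hDt a ha b hb) (hP D) hm' (hMC t hm'), hk, T.lin (hMC t hm'),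
          map_smul, hl, smul_smul]
  have hcomm : ((Finset.univ : Finset s) : Set s).Pairwise (Function.onFun Commute d₀) :=
    fun D _ D' _ hne => hpw' D D' hne _ (hd₀ D) _ (hd₀ D')
  let dP : G := Finset.univ.noncommProd d₀ hcomm
  obtain ⟨θ, hθ⟩ := IsCyclic.exists_generator (α := Kˣ)
  let z : V := if Nat.card K = 3 then dP • x else θ.1 • x
  refine ⟨x, z + ∑ D, f₁ D x, ∑ D, f₂ D x, fun g hgx hg1 hg2 => ?_⟩
  have hterm : ∀ (f : s → Module.End K V), (∀ D, f D ∈ T.algOf D.1) →
      ∀ D, ∃ e ∈ T.algOf D.1, g • f D x - f D x = e x := fun f hf D => by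
    obtain ⟨e, he, h⟩ := alg_mem (hf D) (hch D.1 D.2).normal hgx
    exact ⟨e - f D, sub_mem he (hf D), by rw [h, LinearMap.sub_apply]⟩
  choose e₁ he₁ hee₁ using hterm f₁ hf₁
  choose e₂ he₂ hee₂ using hterm f₂ hf₂
  have hout : ∀ D0 : s, ∀ Q : Module.End K V, Q x = x →
      (∀ D, D ∉ Finset.univ.erase D0 → ∀ d ∈ D.1, ∀ z, Q (d • z) = d • Q z) →
      (∀ m ∈ M (Finset.univ.erase D0), ∃ k : K, Q (m • x) = k • x) →
      ∀ (e : s → Module.End K V), (∀ D, e D ∈ T.algOf D.1) → ∃ k : K, Q (∑ D, e D x) = e D0 x + k • x := by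
    intro D0 Q hQx hQc hQm e he
    have h0 : ∀ a ∈ T.algOf D0.1, Q (a x) = a x := by
      intro a ha
      induction ha using Submodule.span_induction with
      | mem y hy =>
        obtain ⟨d, hd, rfl⟩ := hy
        show Q (d.1 • x) = d.1 • x
        rw [hQc D0 (by simp) d.1 hd, hQx]
      | zero => simp
      | add a b _ _ ha hb => rw [LinearMap.add_apply, map_add, ha, hb]
      | smul c a _ ha => rw [LinearMap.smul_apply, map_smul, ha]
    have h1 : ∀ D, D ≠ D0 → ∀ a ∈ T.algOf D.1, ∃ k : K, Q (a x) = k • x := by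
      intro D hD a ha
      induction ha using Submodule.span_induction with
      | mem y hy =>
        obtain ⟨d, hd, rfl⟩ := hy
        exact hQm d.1 (Finset.le_sup (f := fun D : s => D.1) (by simp [hD]) hd)
      | zero => exact ⟨0, by simp⟩
      | add a b _ _ ha hb =>
        obtain ⟨k, hk⟩ := ha
        obtain ⟨l, hl⟩ := hb
        exact ⟨k + l, by rw [LinearMap.add_apply, map_add, hk, hl, add_smul]⟩
      | smul c a _ ha =>
        obtain ⟨k, hk⟩ := ha
        exact ⟨c * k, by rw [LinearMap.smul_apply, map_smul, hk, mul_smul]⟩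
    choose! k hk using fun D h => h1 D h (e D) (he D)
    refine ⟨∑ D ∈ Finset.univ.erase D0, k D, ?_⟩
    rw [map_sum, ← Finset.add_sum_erase _ _ (Finset.mem_univ D0), h0 _ (he D0),
      Finset.sum_congr rfl fun D hD => hk D (Finset.ne_of_mem_erase hD), Finset.sum_smul]
  have hrest : ∀ D0 : s, ∃ m ∈ M (Finset.univ.erase D0), dP = d₀ D0 * m := fun D0 =>
    ⟨_, Subgroup.noncommProd_mem _ _ fun D hD => Finset.le_sup (f := fun D : s => D.1) hD (hd₀ D),
      (Finset.mul_noncommProd_erase _ (Finset.mem_univ D0) d₀ hcomm).symm⟩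
  have hconj : ∀ d : G, g • d • x = (g * d * g⁻¹) • x := fun d => by
    rw [mul_smul, mul_smul, show g⁻¹ • x = x by rw [inv_smul_eq_iff, hgx]]
  -- the first vector
  have hsum1 : (g • z - z) + ∑ D, e₁ D x = 0 := by
    simp only [← hee₁, Finset.sum_sub_distrib, ← Finset.smul_sum]
    rw [smul_add] at hg1
    rw [← sub_eq_zero.2 hg1]
    abel
  have hfix1 : ∀ D, g • f₁ D x = f₁ D x := by
    intro D0
    rcases hcase D0 with h0 | ⟨h0, -⟩
    swap
    · rw [h0, LinearMap.zero_apply, smul_zero]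
    obtain ⟨Q, hQx, hQc, hQm⟩ := hQ (Finset.univ.erase D0)
    obtain ⟨k, hk⟩ := hout D0 Q hQx hQc hQm e₁ he₁
    obtain ⟨l, hl⟩ : ∃ l : K, Q (g • z - z) = l • x := by
      simp only [z]
      split_ifs with h3
      · obtain ⟨m, hm, em⟩ := hrest D0
        rw [h0, one_mul] at em
        obtain ⟨a, ha⟩ := hQm _ ((hMn _).conj_mem m hm g)
        obtain ⟨b, hb⟩ := hQm m hm
        exact ⟨a - b, by rw [em, hconj, map_sub, ha, hb, sub_smul]⟩
      · exact ⟨T.σ g θ.1 - θ.1, by rw [T.semi, hgx, map_sub, map_smul, map_smul, hQx, sub_smul]⟩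
    have h := congrArg Q hsum1
    rw [map_add, map_zero, hk, hl] at h
    have hs0 := (hg D0 g hgx).1 (-(l + k)) (by
      rw [hee₁, neg_smul, add_smul, eq_neg_iff_add_eq_zero, ← h]
      abel)
    rw [← sub_eq_zero, hee₁]
    rw [neg_eq_zero] at hs0
    rw [← h, add_left_comm, ← add_smul, hs0, zero_smul, add_zero]
  have hz : g • z = z := by
    rw [Finset.sum_eq_zero (fun D _ => by rw [← hee₁, hfix1, sub_self]), add_zero, sub_eq_zero] at hsum1
    exact hsum1
  have hσ : T.σ g = RingEquiv.refl K := RingEquiv.ext fun k => by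
    rcases eq_or_ne k 0 with rfl | hk
    · simp
    obtain ⟨i, hi⟩ := mem_powers_iff_mem_zpowers.2 (hθ (Units.mk0 k hk))
    rw [show k = θ.1 ^ i from (congrArg Units.val hi).symm, map_pow, RingEquiv.refl_apply]
    congr 1
    by_cases h3 : Nat.card K = 3
    · haveI := Fintype.ofFinite K
      by_contra hne
      have hle : ({0, 1, θ.1, T.σ g θ.1} : Finset K).card ≤ 3 := by
        rw [← h3, Nat.card_eq_fintype_card]; exact Finset.card_le_univ _
      have h10 : (0 : K) ≠ 1 := zero_ne_one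
      have hθ0 : (0 : K) ≠ θ.1 := θ.ne_zero.symm
      have hθ1 : (1 : K) ≠ θ.1 := fun e => hne (by rw [← e, map_one])
      have hσ0 : (0 : K) ≠ T.σ g θ.1 := fun e => θ.ne_zero ((T.σ g).injective (e.symm.trans (map_zero _).symm))
      have hσ1 : (1 : K) ≠ T.σ g θ.1 := fun e => hθ1 ((T.σ g).injective ((map_one _).trans e))
      rw [Finset.card_insert_of_notMem (by simp [h10, hθ0, hσ0]),
        Finset.card_insert_of_notMem (by simp [hθ1, hσ1]), Finset.card_pair (Ne.symm hne)] at hle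
      omega
    · simp only [z, if_neg h3, T.semi, hgx] at hz
      exact PS.smul_inj hx hz
  -- the second vector
  have hsum2 : ∑ D, e₂ D x = 0 := by
    simp only [← hee₂, Finset.sum_sub_distrib, ← Finset.smul_sum, sub_eq_zero]
    exact hg2
  have hcent : ∀ D : s, ∀ d ∈ D.1, g * d = d * g := by
    intro D0
    obtain ⟨Q, hQx, hQc, hQm⟩ := hQ (Finset.univ.erase D0)
    obtain ⟨k, hk⟩ := hout D0 Q hQx hQc hQm e₂ he₂
    rw [hsum2, map_zero] at hk
    obtain ⟨s', hs', hc⟩ := (hg D0 g hgx).2 (hfix1 D0) hσ (-k) (by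
      rw [hee₂, neg_smul, eq_neg_iff_add_eq_zero, ← hk])
    apply hc
    rcases hcase D0 with h0 | ⟨-, h3, hne⟩
    · rw [h0, one_smul, hgx, sub_self] at hs'
      exact (smul_eq_zero.1 hs'.symm).resolve_right hx
    obtain ⟨m, hm, em⟩ := hrest D0
    simp only [z, if_pos h3, em] at hz
    have he0 : g * d₀ D0 * g⁻¹ ∈ D0.1 := (hch D0.1 D0.2).normal.conj_mem _ (hd₀ D0) g
    have hm1 : g * m * g⁻¹ ∈ M (Finset.univ.erase D0) := (hMn _).conj_mem m hm g
    have hn : D0 ∉ Finset.univ.erase D0 := by simp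
    have key : (g * d₀ D0 * g⁻¹) • (m⁻¹ * (g * m * g⁻¹)) • x = d₀ D0 • x := by
      rw [hconj, show g * (d₀ D0 * m) * g⁻¹ = (g * d₀ D0 * g⁻¹) * (g * m * g⁻¹) by group] at hz
      rw [← mul_smul, ← mul_assoc, hMc _ D0 hn _ he0 _ (inv_mem hm), mul_assoc, mul_smul, hz, ← mul_smul,
        hMc _ D0 hn _ (hd₀ D0) m hm, inv_mul_cancel_left]
    obtain ⟨c, hc⟩ := hQm _ (mul_mem (inv_mem hm) hm1)
    have h := congrArg Q key
    rw [hQc D0 hn _ he0, hQc D0 hn _ (hd₀ D0), hc, hQx, T.lin ((hch D0.1 D0.2).le he0), ← hconj] at h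
    rw [sub_eq_iff_eq_add] at hs'
    rw [hs', smul_add, smul_smul] at h
    by_contra hne0
    have h2 : (c - 1) • d₀ D0 • x = (-(c * s')) • x := by
      rw [sub_smul, one_smul, neg_smul, eq_neg_iff_add_eq_zero, sub_add_eq_add_sub, sub_eq_zero, add_comm]
      exact h
    by_cases hc1 : c = 1
    · subst hc1
      rw [sub_self, zero_smul, one_mul, neg_smul, zero_eq_neg] at h2
      exact hne0 ((smul_eq_zero.1 h2).resolve_right hx)
    · exact hne ((c - 1)⁻¹ * -(c * s')) (by rw [mul_smul, ← h2, inv_smul_smul₀ (sub_ne_zero.2 hc1)])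
  -- the common centraliser consists of scalars
  let E : Subgroup G := T.C ⊓ ⨅ D : s, Subgroup.centralizer (D.1 : Set G)
  have hgE : g ∈ E := ⟨T.mem_C.2 fun b hb => T.cent_of_refl hσ hb,
    Subgroup.mem_iInf.2 fun D d hd => (hcent D d hd).symm⟩
  have hEn : E.Normal := ⟨fun a ha b => ⟨T.C_normal.conj_mem a ha.1 b, Subgroup.mem_iInf.2 fun D d hd => by
    have h := (Subgroup.mem_iInf.1 ha.2 D) (b⁻¹ * d * b) (by simpa using (hch D.1 D.2).normal.conj_mem d hd b⁻¹)
    have := congrArg (fun z => b * z * b⁻¹) h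
    simpa [mul_assoc] using this⟩⟩
  have hBE : T.B ≤ E := fun b hb => ⟨T.B_le_C hb, Subgroup.mem_iInf.2 fun D d hd =>
    T.mem_C.1 ((hch D.1 D.2).le hd) b hb⟩
  have hEB : E = T.B := by
    by_contra hne
    obtain ⟨D1, hD1, hD1E⟩ := T.exists_chief E hEn inf_le_left (lt_of_le_of_ne hBE (Ne.symm hne))
    have hcom : ∀ D ∈ s, ∀ a ∈ D, ∀ b ∈ D1, a * b = b * a := fun D hD a ha b hb =>
      (Subgroup.mem_iInf.1 (hD1E hb).2 ⟨D, hD⟩) a ha
    have hins : insert D1 s ≤ s := hmax ⟨fun D hD => hD.elim (fun e => e ▸ hD1) (hch D), by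
      rintro D (rfl | hD) D' (rfl | hD') hne a ha b hb
      · exact absurd rfl hne
      · exact (hcom D' hD' b hb a ha).symm
      · exact hcom D hD a ha b hb
      · exact hpw D hD D' hD' hne a ha b hb⟩ (Set.subset_insert _ _)
    exact Chief.not_comm hD1 fun a ha b hb => hcom D1 (hins (Set.mem_insert _ _)) a ha b hb
  obtain ⟨k, hk⟩ := T.scalar g (hEB ▸ hgE)
  have hk1 : k = 1 := PS.smul_inj hx ((hk x).symm.trans (hgx.trans (one_smul K x).symm))
  exact T.faithful g fun v => by rw [hk, hk1, one_smul]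

end Cfsg.Agent.BaseThree
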