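import Cfsg.Agent.BaseTwo.Quaternion
import Cfsg.Agent.BaseThree.Local
import Mathlib.NumberTheory.LegendreSymbol.QuadraticReciprocity

/-!
Quaternion middle parts, for three vectors.
-/

set_option autoImplicit false
set_option maxHeartbeats 1000000

namespace Cfsg.Agent.BaseThree

open BaseTwo

variable {m : ℕ} {K V A Ω : Type*} [Field K] [AddCommGroup V] [Module K V] [Group A]
  [DistribMulAction A V] [AddCommGroup Ω] [DistribMulAction A Ω] [Nontrivial V] [Finite A]

local instance : Fact (Nat.Prime 2) := ⟨Nat.prime_two⟩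

/-- A good point of the circle. -/
theorem exists_point [Finite K] (h2 : (2 : K) ≠ 0) (hsq : ∀ k : K, k * k ≠ -1) (h3 : Nat.card K ≠ 3)
    (h4 : Nat.card K % 4 = 3) (a b : K) (hab : a * a + b * b = -1) :
    ∃ s t : K, s * s + t * t = -1 ∧ s * s ≠ t * t ∧ t * t ≠ 1 := by
  classical
  haveI := Fintype.ofFinite K
  by_cases h : IsSquare (-2 : K)
  · by_contra hno
    push_neg at hno
    have h8 := (FiniteField.isSquare_neg_two_iff.1 h)
    rw [← Nat.card_eq_fintype_card] at h8
    have hq : 8 < Nat.card K := by omega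
    have hu : ∀ u : K, 1 + u * u ≠ 0 := fun u e => hsq u (eq_neg_of_add_eq_zero_right e)
    let c : K → K := fun u => (1 - u * u) / (1 + u * u)
    let d : K → K := fun u => 2 * u / (1 + u * u)
    have hcd : ∀ u, c u * c u + d u * d u = 1 := fun u => by
      simp only [c, d]
      rw [div_mul_div_comm, div_mul_div_comm, ← add_div, div_eq_one_iff_eq (mul_ne_zero (hu u) (hu u))]
      ring
    let f : K → K × K := fun u => (a * c u - b * d u, a * d u + b * c u)
    have hf : ∀ u, (f u).1 * (f u).1 + (f u).2 * (f u).2 = -1 := fun u => by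
      simp only [f]; linear_combination (c u * c u + d u * d u) * hab - hcd u
    have hinj : Function.Injective f := by
      intro u w e
      have e1 := congrArg Prod.fst e
      have e2 := congrArg Prod.snd e
      simp only [f] at e1 e2
      have ec : c u = c w := by linear_combination (-a) * e1 + (-b) * e2 + (c u - c w) * hab
      have ed : d u = d w := by linear_combination b * e1 + (-a) * e2 + (d u - d w) * hab
      have key : ∀ z : K, z * (1 + c z) = d z := fun z => by
        simp only [c, d]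
        rw [one_add_div (hu z), mul_div_assoc']
        ring
      have h1 : ∀ z, 1 + c z ≠ 0 := fun z e => h2 (by
        simp only [c] at e
        rw [one_add_div (hu z), div_eq_zero_iff, or_iff_left (hu z)] at e
        linear_combination e)
      refine mul_right_cancel₀ (h1 u) ?_
      rw [key u, ec, key w, ed]
    obtain ⟨y, hy⟩ := h
    have hx : ∃ i : K, i * i = -2⁻¹ := ⟨y * 2⁻¹, by field_simp; linear_combination -hy⟩
    obtain ⟨i, hi⟩ := hx
    let B : Finset (K × K) := ({i, -i} ×ˢ {i, -i}) ∪ ({y, -y} ×ˢ {1, -1})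
    have hB : ∀ u, f u ∈ B := by
      intro u
      have h' := hf u
      have hor : ∀ z v : K, z * z = v * v → z ∈ ({v, -v} : Finset K) := fun z v e => by
        rcases mul_self_eq_mul_self_iff.1 e with h | h <;> simp [h]
      by_cases e : (f u).1 * (f u).1 = (f u).2 * (f u).2
      · have e' : (f u).2 * (f u).2 = i * i := by
          rw [hi]; field_simp; linear_combination h' - e
        exact Finset.mem_union_left _ (Finset.mem_product.2 ⟨hor _ _ (e.trans e'), hor _ _ e'⟩)
      · have e' := hno _ _ h' e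
        exact Finset.mem_union_right _ (Finset.mem_product.2
          ⟨hor _ _ (by rw [← hy]; linear_combination h' - e'), hor _ _ (e'.trans (mul_one 1).symm)⟩)
    have hle := Finset.card_le_card (Finset.image_subset_iff.2 fun u _ => hB u : Finset.univ.image f ⊆ B)
    rw [Finset.card_image_of_injective _ hinj, Finset.card_univ, ← Nat.card_eq_fintype_card] at hle
    have := Finset.card_union_le ({i, -i} ×ˢ {i, -i} : Finset (K × K)) ({y, -y} ×ˢ {1, -1})
    simp only [Finset.card_product] at this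
    have c1 := Finset.card_le_two (a := i) (b := -i)
    have c2 := Finset.card_le_two (a := y) (b := -y)
    have c3 := Finset.card_le_two (a := (1 : K)) (b := -1)
    have := Nat.mul_le_mul c1 c1
    have := Nat.mul_le_mul c2 c3
    have : B.card ≤ 8 := by simp only [B]; omega
    omega
  · refine ⟨a, b, hab, fun e => h ⟨2 * b, ?_⟩, fun e => h ⟨a, ?_⟩⟩
    · linear_combination (-2 : K) * hab + 2 * e
    · linear_combination -hab + e

variable {S : PS 2 2 K V A Ω} (F : Frame S m (ZMod 2 × ZMod 2))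

/-- A quaternion system is solved by three vectors. -/
theorem solvable_quaternion3 (h2 : (2 : K) ≠ 0) (hK : ∃ k : K, k ≠ 0 ∧ k ≠ 1) (hsq : ∀ k : K, k * k ≠ -1)
    (s t : K) (hst : s * s + t * t = -1)
    (hgood : m = 0 → Nat.card K ≠ 3 → s * s ≠ t * t ∧ t * t ≠ 1)
    (hAA : ∀ z, S.op (F.H (1, 0)) (S.op (F.H (1, 0)) z) = -z)
    (hBB : ∀ z, S.op (F.H (0, 1)) (S.op (F.H (0, 1)) z) = -z)
    (hAB : ∀ z, S.op (F.H (0, 1)) (S.op (F.H (1, 0)) z) = -S.op (F.H (1, 0)) (S.op (F.H (0, 1)) z)) :
    Solvable3 S := by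
  have h2' : ((2 : ℕ) : K) ≠ 0 := by exact_mod_cast h2
  set a := S.op (F.H (1, 0)) with ha
  set b := S.op (F.H (0, 1)) with hb
  have ht0 : t ≠ 0 := fun h => hsq s (by rw [← hst, h, mul_zero, add_zero])
  have hs0 : s ≠ 0 := fun h => hsq t (by rw [← hst, h, mul_zero, zero_add])
  let u : Module.End K V := s • a + t • b
  have hua : a ∈ F.algH := Submodule.subset_span ⟨_, rfl⟩
  have hub : b ∈ F.algH := Submodule.subset_span ⟨_, rfl⟩
  have humem : u ∈ F.algH := add_mem (Submodule.smul_mem _ _ hua) (Submodule.smul_mem _ _ hub)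
  have huv : ∀ z, u z = s • a z + t • b z := fun z => rfl
  have huu : ∀ z, u (u z) = z := fun z => by
    simp only [huv, map_add, map_smul, smul_add, smul_smul, hAA, hBB, hAB, smul_neg, ← neg_smul]
    match_scalars
    · linear_combination -hst
    · ring
  refine ⟨insert u (Set.range fun i => S.op (F.L (Pi.single i 1))), ?_, ?_, ?_⟩
  · rintro e (rfl | ⟨i, rfl⟩)
    · exact F.algH_le humem
    · exact S.op_mem _
  · intro U hU hne
    obtain ⟨z, hzU, hz, hl⟩ := F.exists_lfix h2' U hU hne
    have hfix : ∀ w, F.LFix w → u w = w → ∀ e ∈ insert u (Set.range fun i => S.op (F.L (Pi.single i 1))), e w = w := by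
      rintro w hw hu e (rfl | ⟨i, rfl⟩)
      exacts [hu, hw i]
    have haU : ∀ w ∈ U, a w ∈ U ∧ b w ∈ U ∧ u w ∈ U := fun w hw =>
      ⟨hU _ _ hw, hU _ _ hw, huv w ▸ add_mem (U.smul_mem _ (hU _ _ hw)) (U.smul_mem _ (hU _ _ hw))⟩
    by_cases h0 : z + u z = 0
    · refine ⟨a (b z), (haU _ (haU z hzU).2.1).1, fun h => hz ?_, hfix _ (F.algH_lfix hua (F.algH_lfix hub hl)) ?_⟩
      · exact S.op_inj (F.H (0, 1)) ((S.op_inj (F.H (1, 0)) (h.trans (map_zero _).symm)).trans (map_zero _).symm)
      · have hzu : u z = -z := eq_neg_of_add_eq_zero_right h0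
        rw [huv]
        have e := congrArg (fun w => a (b w)) hzu
        simp only [huv, map_add, map_smul, map_neg] at e
        simp only [hAA, hBB, hAB, map_neg, smul_neg] at e ⊢
        linear_combination (norm := module) -e
    · refine ⟨z + u z, add_mem hzU (haU z hzU).2.2, h0, hfix _ (fun i => ?_) ?_⟩
      · rw [map_add, hl i, F.algH_lfix humem hl i]
      · rw [map_add, huu, add_comm]
  intro x hx hfix
  have hl : F.LFix x := fun i => hfix _ (Or.inr ⟨i, rfl⟩)
  have hux : u x = x := hfix _ (Or.inl rfl)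
  rw [huv] at hux
  -- the middle operators on the fixed vector
  have hbx : b x = t⁻¹ • x + (-(t⁻¹ * s)) • a x := by
    have : t • b x = x - s • a x := eq_sub_of_add_eq' hux
    calc b x = t⁻¹ • t • b x := (inv_smul_smul₀ ht0 _).symm
      _ = _ := by rw [this, smul_sub, smul_smul, neg_smul, sub_eq_add_neg]
  have habx : a (b x) = (t⁻¹ * s) • x + t⁻¹ • a x := by
    rw [hbx, map_add, map_smul, map_smul, hAA, smul_neg, ← neg_smul, neg_neg, add_comm]
  have hindep : ∀ α β : K, α • x + β • a x = 0 → α = 0 ∧ β = 0 := by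
    intro α β h
    by_cases hβ : β = 0
    · rw [hβ, zero_smul, add_zero] at h
      exact ⟨(smul_eq_zero.1 h).resolve_right hx, hβ⟩
    exfalso
    have hax : a x = (-(β⁻¹ * α)) • x := by
      have : β • a x = -(α • x) := eq_neg_of_add_eq_zero_right h
      calc a x = β⁻¹ • β • a x := (inv_smul_smul₀ hβ _).symm
        _ = _ := by rw [this, smul_neg, smul_smul, neg_smul]
    have h1 := hAA x
    rw [hax, map_smul, hax, smul_smul, ← neg_one_smul K x] at h1
    exact hsq _ (PS.smul_inj hx h1)
  have hspan : ∀ h : ZMod 2 × ZMod 2, ∃ α β : K,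
      S.op (F.H h) x = α • x + β • a x := by
    intro h
    rcases Frame.zmod_pairs h with rfl | rfl | rfl | rfl
    · exact ⟨1, 0, by
        rw [map_zero, S.op_zero, one_smul, zero_smul, add_zero]; rfl⟩
    · exact ⟨0, 1, by rw [zero_smul, one_smul, zero_add]⟩
    · exact ⟨_, _, hbx⟩
    · obtain ⟨c, hc, hcc⟩ := S.op_mul (F.H (1, 0)) (F.H (0, 1))
      have hx' := hcc x
      rw [← map_add] at hx'
      refine ⟨c * (t⁻¹ * s), c * t⁻¹, ?_⟩
      have hcc1 : c * c = 1 := by rw [← pow_two, hc]
      rw [mul_smul c, mul_smul c, ← smul_add, ← habx, hx', smul_smul, hcc1, one_smul]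
  have hgen : ∀ (h : ZMod 2 × ZMod 2) (c : K), S.op (F.H h) x = c • x → h = 0 := by
    intro h c hc
    by_contra hne
    have hax : a x = 0 • x + (1 : K) • a x := by simp
    rcases Frame.zmod_pairs h with rfl | rfl | rfl | rfl
    · exact hne rfl
    · exact one_ne_zero (hindep (-c) 1 (by rw [one_smul, neg_smul, ← hc]; exact neg_add_cancel _)).2
    · have h1 := (hindep (t⁻¹ - c) (-(t⁻¹ * s)) (by rw [sub_smul, ← hc, ← hb, hbx]; abel)).2
      exact mul_ne_zero (inv_ne_zero ht0) hs0 (neg_eq_zero.1 h1)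
    · obtain ⟨d, hd, hdd⟩ := S.op_mul (F.H (1, 0)) (F.H (0, 1))
      have hx' := hdd x
      rw [← map_add, hc, smul_smul, ← ha, ← hb, habx] at hx'
      have h1 := (hindep (t⁻¹ * s - d * c) t⁻¹ (by rw [sub_smul, ← hx']; abel)).2
      exact inv_ne_zero ht0 h1
  obtain ⟨P, hP, hPx, hPop⟩ := projection F h2' hl ((2 : K)⁻¹ • (1 + u))
    (Submodule.smul_mem _ _ (add_mem S.one_mem_alg (F.algH_le humem)))
    (by
      simp only [LinearMap.smul_apply, LinearMap.add_apply, Module.End.one_apply, huv, hux]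
      rw [← two_smul K x, smul_smul, inv_mul_cancel₀ h2, one_smul])
    (by
      intro h
      obtain ⟨α, β, e⟩ := hspan h
      refine ⟨α - β * s, ?_⟩
      have hab : b (a x) = (-(t⁻¹ * s)) • x + (-t⁻¹) • a x := by
        rw [hAB, habx]; module
      simp only [e, LinearMap.smul_apply, LinearMap.add_apply, Module.End.one_apply, map_add, map_smul, huv, hux,
        hAA, hab, smul_add, smul_smul, smul_neg, ← neg_smul]
      match_scalars <;> field_simp <;> ring)
  have hHfix : ∀ g : A, g • x = x → S.σ g = RingEquiv.refl K → g • a x = a x →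
      ∀ h, g • S.op (F.H h) x = S.op (F.H h) x := fun g hg hσ hga h => by
    obtain ⟨α, β, e⟩ := hspan h
    rw [e, smul_add, S.semi, S.semi, hσ, RingEquiv.refl_apply, RingEquiv.refl_apply, hg, hga]
  rcases Nat.eq_zero_or_pos m with rfl | hm
  · -- no pairs
    let v : Ω := if Nat.card K = 3 then F.H (1, 0) else 0
    refine ⟨P, hP, 0, zero_mem _, a, S.op_mem _, v, hPx, hPop, ?_, fun g hg => ⟨fun c hc => ?_, fun _ hσ c hc => ?_⟩⟩
    · simp only [v]
      split_ifs with h
      · refine Or.inr ⟨trivial, h, fun k e => ?_⟩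
        exact one_ne_zero (hindep (-k) 1 (by rw [one_smul, neg_smul, ha, e]; exact neg_add_cancel _)).2
      · exact Or.inl rfl
    · simp only [LinearMap.zero_apply, smul_zero, sub_zero] at hc
      exact (smul_eq_zero.1 hc.symm).resolve_right hx
    have hid : ∀ w : Fin 0 → ZMod 2, F.proj g w = w := fun w => Subsingleton.elim _ _
    have hcent : c = 0 → S.Centralises g := fun hc0 => by
      rw [hc0, zero_smul, sub_eq_zero] at hc
      exact centralises F hx hl hgen hg hσ hid (fun w => by rw [Subsingleton.elim w 0, F.tauT_zero]; exact hg)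
        (hHfix g hg hσ hc)
    by_cases h3 : Nat.card K = 3
    · simp only [v, if_pos h3]
      exact ⟨hc, hcent⟩
    simp only [v, if_neg h3, S.op_zero, Module.End.one_apply, hg, sub_self]
    obtain ⟨hne, ht1⟩ := hgood rfl h3
    suffices hc0 : c = 0 by exact ⟨by rw [hc0, zero_smul], hcent⟩
    obtain ⟨κ, hκ, eκ⟩ := S.conj g (F.H (1, 0))
    have hcoef : g • a x = c • x + (1 : K) • a x := by rw [one_smul, ← hc]; abel
    have hT := F.ccoord hx hg hl hgen (w := F.H (1, 0))
      (by rw [show F.ι.symm (F.H (1, 0)) = ((0, 0), (1, 0)) from F.ι.symm_apply_apply _])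
    have hgH : ∃ h', g • F.H (1, 0) = F.H h' := ⟨(F.ι.symm (g • F.H (1, 0))).2, by
      conv_lhs => rw [F.split (g • F.H (1, 0)), hT, map_zero, zero_add,
        Subsingleton.elim (F.ι.symm (g • F.H (1, 0))).1.2 0, map_zero, zero_add]⟩
    obtain ⟨h', hh'⟩ := hgH
    have hga : g • a x = κ • S.op (F.H h') x := by rw [ha, eκ, hg, hh']
    have heq : ∀ α β : K, S.op (F.H h') x = α • x + β • a x → κ * α = c ∧ κ * β = 1 := by
      intro α β e
      have := hindep (κ * α - c) (κ * β - 1) (by
        rw [sub_smul, sub_smul, mul_smul, mul_smul, sub_add_sub_comm, ← smul_add, ← e, ← hga, hcoef, sub_self])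
      exact ⟨sub_eq_zero.1 this.1, sub_eq_zero.1 this.2⟩
    have hκ1 : κ * κ = 1 := by rw [← pow_two, hκ]
    rcases Frame.zmod_pairs h' with rfl | rfl | rfl | rfl
    · obtain ⟨-, e⟩ := heq 1 0 (by rw [map_zero, S.op_zero, one_smul, zero_smul, add_zero]; rfl)
      rw [mul_zero] at e
      exact absurd e zero_ne_one
    · obtain ⟨e, -⟩ := heq 0 1 (by rw [zero_smul, one_smul, zero_add])
      rw [mul_zero] at e
      exact e.symm
    · obtain ⟨-, e⟩ := heq _ _ hbx
      refine absurd ?_ hne
      have e' : κ * s = -t := by linear_combination (-t) * e - (κ * s) * mul_inv_cancel₀ ht0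
      linear_combination (κ * s - t) * e' - (s * s) * hκ1
    · obtain ⟨d, hd, hdd⟩ := S.op_mul (F.H (1, 0)) (F.H (0, 1))
      have hd1 : d * d = 1 := by rw [← pow_two, hd]
      have hx' := hdd x
      rw [← map_add, ← ha, ← hb, habx] at hx'
      obtain ⟨-, e⟩ := heq (d * (t⁻¹ * s)) (d * t⁻¹) (by
        rw [mul_smul d, mul_smul d, ← smul_add, hx', smul_smul, hd1, one_smul])
      refine absurd ?_ ht1
      have e' : κ * d = t := by linear_combination t * e - (κ * d) * mul_inv_cancel₀ ht0
      linear_combination (-(κ * d) - t) * e' + (d * d) * hκ1 + hd1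
  -- the value at the tip
  classical
  obtain ⟨k, hk0, hk1⟩ := hK
  let i0 : Fin m := ⟨0, hm⟩
  let Z1 : (Fin m → ZMod 2) → Module.End K V := fun w => if w = 0 then 0 else 1
  have hZ1 : ∀ w, Z1 w ∈ F.algH := fun w => by
    simp only [Z1]; split_ifs; exacts [zero_mem _, F.one_mem_algH]
  let Z2 := col2 2 m k a
  have hZ2 : ∀ w, Z2 w ∈ F.algH := col2_mem F k hua
  have halg : ∀ Z : (Fin m → ZMod 2) → Module.End K V, (∀ w, Z w ∈ F.algH) →
      (0 + ∑ w, F.tauT w * Z w) ∈ S.alg := fun Z hZ =>
    add_mem (zero_mem _) (Submodule.sum_mem _ fun w _ => S.mul_mem_alg (F.tauT_mem w) (F.algH_le (hZ w)))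
  refine ⟨P, hP, _, halg Z1 hZ1, _, halg Z2 hZ2, 0, hPx, hPop, Or.inl rfl, fun g hg => ?_⟩
  have c1 := fun c (hs : g • (0 + ∑ w, F.tauT w * Z1 w) x - (0 + ∑ w, F.tauT w * Z1 w) x = c • x) =>
    components F hx hl hgen 0 (zero_mem _) Z1 hZ1 (if_pos rfl) hg hs
  have hs00 : ∀ c : K, g • (0 : Module.End K V) x - (0 : Module.End K V) x = c • x → c = 0 := fun c h => by
    simp only [LinearMap.zero_apply, smul_zero, sub_zero] at h
    exact (smul_eq_zero.1 h.symm).resolve_right hx
  refine ⟨fun c hc => hs00 c (c1 c hc).1, fun h1 hσ c hc => ?_⟩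
  obtain ⟨-, e1⟩ := c1 0 (by rw [h1, sub_self, zero_smul])
  obtain ⟨e2', e2⟩ := components F hx hl hgen 0 (zero_mem _) Z2 hZ2 (col2_zero k _) hg hc
  have hc0 : c = 0 := hs00 c e2'
  subst hc0
  rw [S.op_zero, Module.End.one_apply, hg, sub_self, zero_smul]
  refine ⟨rfl, fun _ => ?_⟩
  have hinj := proj_injective F hx hl hgen hg
  have hτ : ∀ w, g • F.tauT w x = F.tauT (F.proj g w) x := by
    intro w
    by_cases hw : w = 0
    · subst hw; simp [F.tauT_zero, hg]
    have := e1 w
    have hw2 : F.proj g w ≠ 0 := fun e => hw (hinj (e.trans (map_zero _).symm))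
    simp only [Z1, if_neg hw, if_neg hw2, Module.End.one_apply] at this
    exact this
  have hz : ∀ w, Z2 (F.proj g w) x = g • Z2 w x := fun w => by
    have := e2 w
    rw [transfer F hx hl hgen hg hτ w (hZ2 w)] at this
    exact (tauT_inj F _ this).symm
  have htip : ∀ w, tip 2 m w ↔ w = sg 2 i0 := fun w =>
    ⟨fun ⟨i, hi, e⟩ => by rw [e, show i = i0 from Fin.ext hi], fun e => ⟨i0, rfl, e⟩⟩
  have hval : ∀ w, ¬ tip 2 m w → ∃ c : K, Z2 w x = c • x := fun w hw => by
    simp only [Z2, col2, if_neg hw]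
    split_ifs
    exacts [⟨1, by simp⟩, ⟨k, by simp⟩, ⟨0, by simp⟩]
  have hZa : Z2 (sg 2 i0) x = a x := by simp only [Z2, col2, if_pos ((htip _).2 rfl)]
  have ht0' : F.proj g (sg 2 i0) = sg 2 i0 := by
    by_contra hne
    obtain ⟨c, hc⟩ := hval _ (fun h => hne ((htip _).1 h))
    have h' := hz (sg 2 i0)
    rw [hZa, hc] at h'
    have hgc : g • (c • x) = c • x := by rw [S.semi, hσ, RingEquiv.refl_apply, hg]
    have hax := MulAction.injective g (hgc.trans h')
    exact one_ne_zero (hindep (-c) 1 (by rw [one_smul, neg_smul, ← hax]; exact neg_add_cancel _)).2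
  have hga : g • a x = a x := by rw [← hZa, ← hz, ht0']
  have hid : ∀ w, F.proj g w = w := col2_rigid (E := a) hk0 hk1 hx (F.proj g) hinj
    (fun w hw => by rw [(htip w).1 hw, ht0']) fun w hw => by
      obtain ⟨c, hc⟩ := hval w hw
      show Z2 _ x = Z2 w x
      rw [hz w, hc, S.semi, hσ, RingEquiv.refl_apply, hg]
  exact centralises F hx hl hgen hg hσ hid (fun w => by rw [hτ, hid]) (hHfix g hg hσ hga)

end Cfsg.Agent.BaseThree
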